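import Mathlib

universe u

namespace Groth.Agent.FreeCompl

variable {R : Type u} [CommRing R] (I : Ideal R) {α : Type u}

lemma mem_pow_smul_top_iff (n : ℕ) (f : α →₀ R) :
    f ∈ (I ^ n • ⊤ : Submodule R (α →₀ R)) ↔ ∀ a, f a ∈ I ^ n := by
  classical
  refine ⟨fun h a => ?_, fun h => ?_⟩
  · refine Submodule.smul_induction_on (p := fun x => x a ∈ I ^ n) h (fun r hr x _ => ?_)
      (fun x y hx hy => ?_)
    · simpa using Ideal.mul_mem_right (x a) _ hr
    · simpa using add_mem hx hy
  · rw [← f.sum_single]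
    refine Submodule.sum_mem _ fun a _ => ?_
    rw [show Finsupp.single a (f a) = f a • Finsupp.single a 1 by simp]
    exact Submodule.smul_mem_smul (h a) Submodule.mem_top

lemma exists_preimage (m s n : ℕ) (K : Submodule R (Fin m → R)) (g : Fin s → K)
    (hg : Submodule.span R (Set.range g) = ⊤) :
    ∃ P : (Fin m → R) → (Fin s → R), P 0 = 0 ∧ ∀ v, v ∈ I ^ n • K →
      (∀ l, P v l ∈ I ^ n) ∧ ∑ l, P v l • (g l : Fin m → R) = v := by
  classical
  have h : ∀ v, v ∈ I ^ n • K → ∃ q : Fin s → R, (∀ l, q l ∈ I ^ n) ∧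
      ∑ l, q l • (g l : Fin m → R) = v := by
    intro v hv
    refine Submodule.smul_induction_on hv (fun r hr x hx => ?_) (fun x y hx hy => ?_)
    · have : (⟨x, hx⟩ : K) ∈ Submodule.span R (Set.range g) := hg ▸ Submodule.mem_top
      obtain ⟨q, hq⟩ := (Submodule.mem_span_range_iff_exists_fun R).mp this
      refine ⟨fun l => r * q l, fun l => Ideal.mul_mem_right _ _ hr, ?_⟩
      have := congrArg (fun z : K => r • (z : Fin m → R)) hq
      simpa [Finset.smul_sum, smul_smul] using this
    · obtain ⟨q, hq, rfl⟩ := hx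
      obtain ⟨q', hq', rfl⟩ := hy
      exact ⟨q + q', fun l => add_mem (hq l) (hq' l),
        by simp [add_smul, Finset.sum_add_distrib]⟩
  choose Q hQ hQ' using h
  refine ⟨fun v => if hv : v ∈ I ^ n • K ∧ v ≠ 0 then Q v hv.1 else 0, by simp, fun v hv => ?_⟩
  dsimp only
  split_ifs with h0
  · exact ⟨hQ v hv, hQ' v hv⟩
  · obtain rfl : v = 0 := by_contra fun h1 => h0 ⟨hv, h1⟩
    simp

lemma pi_mem_smul_top {m n : ℕ} {v : Fin m → R} (h : ∀ i, v i ∈ I ^ n) :
    v ∈ (I ^ n • ⊤ : Submodule R (Fin m → R)) := by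
  classical
  rw [← Finset.univ_sum_single v]
  refine Submodule.sum_mem _ fun i _ => ?_
  rw [show (Pi.single i (v i) : Fin m → R) = v i • Pi.single i 1 by
    rw [← Pi.single_smul, smul_eq_mul, mul_one]]
  exact Submodule.smul_mem_smul (h i) Submodule.mem_top

variable [IsNoetherianRing R]

lemma exists_ker_correction {m : ℕ} (φ : (Fin m → R) →ₗ[R] R) :
    ∃ c, ∀ n, ∃ W : (Fin m → R) → (Fin m → R), W 0 = 0 ∧
      ∀ v, φ v ∈ I ^ (n + c) → φ (W v) = 0 ∧ ∀ i, W v i - v i ∈ I ^ n := by
  classical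
  obtain ⟨c, hc⟩ := Ideal.exists_pow_inf_eq_pow_smul I (LinearMap.range φ)
  refine ⟨c, fun n => ?_⟩
  have h : ∀ v, φ v ∈ I ^ (n + c) → ∃ w, φ w = 0 ∧ ∀ i, w i - v i ∈ I ^ n := by
    intro v hv
    have h1 : φ v ∈ I ^ (n + c) • (⊤ : Submodule R R) ⊓ LinearMap.range φ := ⟨by simpa using hv, v, rfl⟩
    rw [hc (n + c) (by omega), Nat.add_sub_cancel] at h1
    have h2 := Submodule.smul_mono le_rfl inf_le_right h1
    rw [← Submodule.map_top, ← Submodule.map_smul''] at h2
    obtain ⟨y, hy, hy'⟩ := h2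
    have hyi : ∀ i, y i ∈ I ^ n := fun i =>
      Submodule.smul_induction_on (p := fun z => z i ∈ I ^ n) hy
        (fun t ht z _ => by simpa using Ideal.mul_mem_right (z i) _ ht)
        (fun z z' hz hz' => by simpa using add_mem hz hz')
    exact ⟨v - y, by rw [map_sub, hy', sub_self], fun i => by simpa using neg_mem (hyi i)⟩
  choose Q hQ hQ' using h
  refine ⟨fun v => if hv : φ v ∈ I ^ (n + c) ∧ v ≠ 0 then Q v hv.1 else 0, by simp, fun v hv => ?_⟩
  dsimp only
  split_ifs with h0
  · exact ⟨hQ v hv, hQ' v hv⟩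
  · obtain rfl : v = 0 := by_contra fun h1 => h0 ⟨hv, h1⟩
    simp

theorem flat_adicCompletion_finsupp : Module.Flat R (AdicCompletion I (α →₀ R)) := by
  classical
  refine Module.Flat.of_forall_isTrivialRelation fun {m} r x hrx => ?_
  choose u hu using fun i => AdicCompletion.mk_surjective I (α →₀ R) (x i)
  let φ : (Fin m → R) →ₗ[R] R := Fintype.linearCombination R r
  have hφ : ∀ v, φ v = ∑ i, v i * r i := fun v => rfl
  obtain ⟨c, hc⟩ := exists_ker_correction I φ
  choose W hW0 hW using hc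
  let K := LinearMap.ker φ
  obtain ⟨c', hc'⟩ := Ideal.exists_pow_inf_eq_pow_smul I K
  obtain ⟨s, g, hg⟩ := Module.Finite.exists_fin (R := R) (M := K)
  choose P hP0 hP using fun n => exists_preimage I m s n K g hg
  let v : ℕ → α →₀ (Fin m → R) := fun n => Finsupp.ofSupportFinite (fun a i => u i n a) (by
    refine Set.Finite.subset (Finset.univ.biUnion fun i => (u i n).support).finite_toSet fun a ha => ?_
    obtain ⟨i, hi⟩ := Function.ne_iff.mp ha
    exact Finset.mem_coe.mpr (Finset.mem_biUnion.mpr ⟨i, Finset.mem_univ _, Finsupp.mem_support_iff.mpr hi⟩))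
  have hv : ∀ n a i, v n a i = u i n a := fun n a i => rfl
  have hcauchy : ∀ {k l : ℕ}, k ≤ l → ∀ a i, u i k a - u i l a ∈ I ^ k := fun {k l} hkl a i => by
    have := (u i).2 hkl
    rw [SModEq.sub_mem, mem_pow_smul_top_iff] at this
    simpa using this a
  have hrel : ∀ n a, φ (v n a) ∈ I ^ n := fun n a => by
    have h1 : AdicCompletion.eval I (α →₀ R) n (∑ i, r i • x i) = 0 := by rw [hrx, map_zero]
    have h2 : AdicCompletion.eval I (α →₀ R) n (∑ i, r i • x i)
        = Submodule.Quotient.mk (∑ i, r i • u i n) := by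
      simp only [← hu, map_sum, map_smul]
      rw [← Submodule.mkQ_apply, map_sum]
      simp only [map_smul]
      rfl
    rw [h2, Submodule.Quotient.mk_eq_zero, mem_pow_smul_top_iff] at h1
    simpa [hφ, hv, mul_comm, Finsupp.finsetSum_apply] using h1 a
  let w : ℕ → α →₀ (Fin m → R) := fun n => (v (n + c)).mapRange (W n) (hW0 n)
  have hwker : ∀ n a, w n a ∈ K := fun n a => (hW n _ (hrel _ a)).1
  have hwv : ∀ n a i, w n a i - v n a i ∈ I ^ n := fun n a i => by
    have h1 : w n a i - v (n + c) a i ∈ I ^ n := (hW n _ (hrel _ a)).2 i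
    have h2 := hcauchy (show n ≤ n + c by omega) a i
    rw [hv] at h1 ⊢
    convert sub_mem h1 h2 using 1; ring
  have hwcauchy : ∀ n a, w (n + c' + 1) a - w (n + c') a ∈ I ^ n • K := fun n a => by
    have h1 : w (n + c' + 1) a - w (n + c') a ∈ I ^ (n + c') • (⊤ : Submodule R (Fin m → R)) ⊓ K := by
      refine ⟨pi_mem_smul_top I fun i => ?_, sub_mem (hwker _ a) (hwker _ a)⟩
      have e1 := Ideal.pow_le_pow_right (show n + c' ≤ n + c' + 1 by omega) (hwv (n + c' + 1) a i)
      have e2 := hwv (n + c') a i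
      have e3 := hcauchy (show n + c' ≤ n + c' + 1 by omega) a i
      rw [← hv, ← hv] at e3
      rw [Pi.sub_apply]
      convert sub_mem (sub_mem e1 e2) e3 using 1; ring
    rw [hc' (n + c') (by omega), Nat.add_sub_cancel] at h1
    exact Submodule.smul_mono le_rfl inf_le_right h1
  have hw0 : ∀ a, w c' a ∈ I ^ 0 • K := fun a => by simpa using hwker c' a
  let z : ℕ → α →₀ (Fin s → R) := fun n => Nat.rec ((w c').mapRange (P 0) (hP0 0))
    (fun k zk => zk + (w (k + c' + 1) - w (k + c')).mapRange (P k) (hP0 k)) n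
  have hzs : ∀ k, z (k + 1) = z k + (w (k + c' + 1) - w (k + c')).mapRange (P k) (hP0 k) :=
    fun k => rfl
  have hz : ∀ n a, ∑ l, z n a l • (g l : Fin m → R) = w (n + c') a := by
    intro n a
    induction n with
    | zero =>
      simp only [Nat.zero_add]
      exact (hP 0 _ (hw0 a)).2
    | succ k ih =>
      simp only [hzs, Finsupp.add_apply, Finsupp.mapRange_apply, Finsupp.sub_apply, Pi.add_apply,
        add_smul, Finset.sum_add_distrib, ih, (hP k _ (hwcauchy k a)).2]
      rw [show k + 1 + c' = k + c' + 1 by omega]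
      abel
  let Z : Fin s → ℕ → α →₀ R := fun l n => (z n).mapRange (fun q => q l) rfl
  have hZ : ∀ l, AdicCompletion.IsAdicCauchy I (α →₀ R) (Z l) := fun l => by
    rw [AdicCompletion.isAdicCauchy_iff]
    intro n
    rw [SModEq.sub_mem, mem_pow_smul_top_iff]
    intro a
    simp only [Z, Finsupp.sub_apply, Finsupp.mapRange_apply, hzs, Finsupp.add_apply, Pi.add_apply,
      sub_add_cancel_left]
    refine neg_mem ?_
    simpa using (hP n _ (hwcauchy n a)).1 l
  refine ⟨s, fun i l => (g l : Fin m → R) i, fun l => AdicCompletion.mk I _ ⟨Z l, hZ l⟩, ?_, ?_⟩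
  · intro i
    refine AdicCompletion.ext fun n => ?_
    rw [← hu]
    dsimp only
    rw [AdicCompletion.val_sum_apply]
    show (I ^ n • ⊤ : Submodule R (α →₀ R)).mkQ (u i n) = ∑ l, (g l : Fin m → R) i •
      (I ^ n • ⊤ : Submodule R (α →₀ R)).mkQ (Z l n)
    simp only [← map_smul, ← map_sum]
    rw [Submodule.mkQ_apply, Submodule.mkQ_apply, Submodule.Quotient.eq, mem_pow_smul_top_iff]
    intro a
    have h1 := congrFun (hz n a) i
    simp only [Finset.sum_apply, Pi.smul_apply, smul_eq_mul] at h1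
    have h2 := hwv (n + c') a i
    have h3 := hcauchy (show n ≤ n + c' by omega) a i
    rw [hv] at h2
    simp only [Finsupp.sub_apply, Finsupp.finsetSum_apply, Finsupp.smul_apply, smul_eq_mul, Z,
      Finsupp.mapRange_apply]
    have h4 : ∑ l, (g l : Fin m → R) i * z n a l = w (n + c') a i := by
      rw [← h1]; exact Finset.sum_congr rfl fun l _ => mul_comm _ _
    rw [h4]
    convert sub_mem h3 (Ideal.pow_le_pow_right (show n ≤ n + c' by omega) h2) using 1; ring
  · intro l
    have := (g l).2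
    rw [LinearMap.mem_ker, hφ] at this
    simpa [mul_comm] using this

end Groth.Agent.FreeCompl
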